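import Cfsg.Agent.Lib.OrthTwo.Roots

/-!
Root bases of the orthogonal spaces of dimensions 4, 6 (minus) and 8 (plus).
-/

set_option autoImplicit false
set_option maxRecDepth 10000
set_option synthInstance.maxSize 4000
set_option synthInstance.maxHeartbeats 200000

namespace Cfsg.Agent.OrthTwo.Data

local notation "F" => ZMod 2

/-- Root basis. -/
def eM1 : Fin 4 → ((Fin 1 ⊕ Fin 1) ⊕ Fin 2) → F := ![
  Sum.elim (Sum.elim ![0] ![0]) ![0, 1],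
  Sum.elim (Sum.elim ![0] ![0]) ![1, 0],
  Sum.elim (Sum.elim ![0] ![1]) ![0, 1],
  Sum.elim (Sum.elim ![1] ![0]) ![0, 1]]

/-- Instructions. -/
def stM1 : List (ℕ × Fin 4) := [(0, 1), (1, 2), (1, 3), (2, 3), (4, 2), (4, 3)]

theorem parM1 : ∀ i : Fin 4, i = 0 ∨ ∃ j, j < i ∧ A (Cfsg.quadFormMinus 1 F 1 1) (eM1 j) (eM1 i) := by
  decide +kernel

theorem firstM1 : ∃ j, A (Cfsg.quadFormMinus 1 F 1 1) (eM1 0) (eM1 j) := by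
  decide +kernel

theorem kerM1 : ∀ a : ((Fin 1 ⊕ Fin 1) ⊕ Fin 2) → F, (∀ i, (Cfsg.quadFormMinus 1 F 1 1) (a + eM1 i) = (Cfsg.quadFormMinus 1 F 1 1) a + (Cfsg.quadFormMinus 1 F 1 1) (eM1 i)) → a = 0 := by
  decide +kernel

theorem allM1 : ∀ u, (Cfsg.quadFormMinus 1 F 1 1) u = 1 → u ∈ build (Cfsg.quadFormMinus 1 F 1 1) eM1 stM1 (List.ofFn eM1) := by
  decide +kernel

theorem stepM1 : ∀ (i : Fin 4) (b : ((Fin 1 ⊕ Fin 1) ⊕ Fin 2) → F), (Cfsg.quadFormMinus 1 F 1 1) b = 1 → (∀ j, j < i → b ≠ eM1 j) →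
    (∀ j, j < i → (Cfsg.quadFormMinus 1 F 1 1) (b + eM1 j) = (Cfsg.quadFormMinus 1 F 1 1) (eM1 i + eM1 j)) →
    b = eM1 i ∨ (Cfsg.quadFormMinus 1 F 1 1) (b + eM1 i) = 1 ∨
      ∃ w, (Cfsg.quadFormMinus 1 F 1 1) w = 1 ∧ (Cfsg.quadFormMinus 1 F 1 1) (b + w) = 1 ∧ (Cfsg.quadFormMinus 1 F 1 1) (w + eM1 i) = 1 ∧
        ∀ j, j < i → (Cfsg.quadFormMinus 1 F 1 1) (w + eM1 j) = (Cfsg.quadFormMinus 1 F 1 1) (eM1 i + eM1 j) := by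
  decide +kernel

theorem injM1 : Function.Injective eM1 := by
  decide +kernel

theorem oneM1 : ∀ i, (Cfsg.quadFormMinus 1 F 1 1) (eM1 i) = 1 := by
  decide +kernel

/-- Root basis. -/
def eM2 : Fin 6 → ((Fin 2 ⊕ Fin 2) ⊕ Fin 2) → F := ![
  Sum.elim (Sum.elim ![0, 0] ![1, 0]) ![0, 1],
  Sum.elim (Sum.elim ![0, 0] ![0, 0]) ![1, 0],
  Sum.elim (Sum.elim ![0, 1] ![0, 0]) ![0, 1],
  Sum.elim (Sum.elim ![0, 0] ![0, 0]) ![0, 1],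
  Sum.elim (Sum.elim ![0, 0] ![0, 1]) ![0, 1],
  Sum.elim (Sum.elim ![1, 0] ![0, 0]) ![1, 0]]

/-- Instructions. -/
def stM2 : List (ℕ × Fin 6) := [(0, 1), (1, 2), (1, 3), (1, 4), (2, 4), (2, 5), (3, 5), (4, 5), (6, 2), (6, 3), (6, 4), (7, 3), (7, 5), (8, 4), (8, 5), (9, 5), (11, 3), (12, 4), (14, 3), (14, 5), (15, 4), (15, 5), (16, 5), (18, 4), (24, 1), (25, 4), (26, 1), (30, 4), (31, 1), (33, 5)]

theorem parM2 : ∀ i : Fin 6, i = 0 ∨ ∃ j, j < i ∧ A (Cfsg.quadFormMinus 2 F 1 1) (eM2 j) (eM2 i) := by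
  decide +kernel

theorem firstM2 : ∃ j, A (Cfsg.quadFormMinus 2 F 1 1) (eM2 0) (eM2 j) := by
  decide +kernel

theorem kerM2 : ∀ a : ((Fin 2 ⊕ Fin 2) ⊕ Fin 2) → F, (∀ i, (Cfsg.quadFormMinus 2 F 1 1) (a + eM2 i) = (Cfsg.quadFormMinus 2 F 1 1) a + (Cfsg.quadFormMinus 2 F 1 1) (eM2 i)) → a = 0 := by
  decide +kernel

theorem allM2 : ∀ u, (Cfsg.quadFormMinus 2 F 1 1) u = 1 → u ∈ build (Cfsg.quadFormMinus 2 F 1 1) eM2 stM2 (List.ofFn eM2) := by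
  decide +kernel

/-- Root basis. -/
def eP4 : Fin 8 → (Fin 4 ⊕ Fin 4) → F := ![
  Sum.elim ![1, 1, 0, 0] ![0, 1, 0, 0],
  Sum.elim ![1, 0, 0, 0] ![1, 0, 1, 0],
  Sum.elim ![1, 1, 1, 0] ![1, 0, 0, 0],
  Sum.elim ![1, 0, 0, 0] ![1, 1, 0, 0],
  Sum.elim ![1, 0, 0, 0] ![1, 1, 0, 1],
  Sum.elim ![0, 0, 1, 1] ![0, 0, 1, 0],
  Sum.elim ![1, 0, 0, 0] ![1, 0, 0, 0],
  Sum.elim ![0, 1, 0, 0] ![0, 1, 0, 0]]

/-- Instructions. -/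
def stP4 : List (ℕ × Fin 8) := [(0, 1), (0, 6), (1, 2), (1, 5), (2, 3), (2, 4), (2, 5), (2, 7), (3, 7), (4, 5), (4, 7), (8, 2), (8, 5), (8, 6), (10, 3), (10, 4), (10, 7), (11, 4), (12, 4), (12, 5), (14, 7), (16, 4), (17, 7), (19, 3), (19, 4), (19, 6), (19, 7), (20, 4), (20, 6), (22, 4), (23, 5), (25, 7), (26, 7), (28, 4), (29, 5), (31, 4), (31, 6), (32, 5), (32, 6), (33, 7), (35, 6), (35, 7), (37, 2), (37, 5), (37, 7), (39, 3), (43, 2), (43, 5), (43, 6), (43, 7), (45, 1), (45, 6), (48, 7), (49, 3), (51, 7), (54, 1), (54, 6), (55, 1), (55, 6), (55, 7), (56, 7), (58, 6), (60, 3), (62, 4), (63, 5), (63, 6), (65, 6), (65, 7), (66, 7), (67, 4), (69, 0), (72, 4), (72, 6), (73, 0), (74, 0), (74, 7), (75, 4), (76, 4), (79, 6), (79, 7), (80, 0), (82, 7), (83, 4), (84, 5), (86, 0), (86, 7), (87, 3), (88, 1), (89, 4), (90, 5), (92, 1),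 (92, 7), (93, 3), (96, 5), (98, 2), (98, 5), (98, 7), (99, 3), (101, 1), (102, 3), (103, 7), (104, 3), (107, 7), (108, 3), (108, 4), (110, 4), (111, 4), (113, 5), (114, 7), (115, 1), (117, 0), (118, 6)]

theorem parP4 : ∀ i : Fin 8, i = 0 ∨ ∃ j, j < i ∧ A (Cfsg.quadFormPlus 4 F) (eP4 j) (eP4 i) := by
  decide +kernel

theorem firstP4 : ∃ j, A (Cfsg.quadFormPlus 4 F) (eP4 0) (eP4 j) := by
  decide +kernel

theorem kerP4 : ∀ a : (Fin 4 ⊕ Fin 4) → F, (∀ i, (Cfsg.quadFormPlus 4 F) (a + eP4 i) = (Cfsg.quadFormPlus 4 F) a + (Cfsg.quadFormPlus 4 F) (eP4 i)) → a = 0 := by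
  decide +kernel

theorem allP4 : ∀ u, (Cfsg.quadFormPlus 4 F) u = 1 → u ∈ build (Cfsg.quadFormPlus 4 F) eP4 stP4 (List.ofFn eP4) := by
  decide +kernel

end Cfsg.Agent.OrthTwo.Data
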