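import Cfsg.Prelude.Def_Classical
import Cfsg.Agent.Lib.Orthogonal.Counts

/-!
`O⁺₆(2) ≅ S₈`: the symmetric group on eight letters acting on the heart of its permutation module.
-/

set_option autoImplicit false

namespace Cfsg.Agent.SymEight

open Matrix

local notation "I6" => Fin 3 ⊕ Fin 3
local notation "Z" => ZMod 2

/-- Indicator vectors of the six subsets forming three hyperbolic pairs. -/
def basisE : Fin 3 → Fin 8 → ZMod 2 :=
  ![![1, 1, 1, 1, 0, 0, 0, 0], ![1, 0, 0, 1, 1, 1, 0, 0], ![1, 1, 0, 0, 0, 1, 1, 0]]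

/-- The partners of `basisE`. -/
def basisF : Fin 3 → Fin 8 → ZMod 2 :=
  ![![1, 1, 1, 0, 1, 0, 0, 0], ![1, 0, 0, 1, 1, 0, 1, 0], ![1, 0, 1, 0, 0, 1, 1, 0]]

/-- Lift from the heart to even vectors. -/
def liftM : Matrix (Fin 8) (Fin 3 ⊕ Fin 3) (ZMod 2) :=
  Matrix.of fun i k => Sum.elim (fun j => basisE j i) (fun j => basisF j i) k

/-- Coordinates of an even vector in the heart. -/
def coordM : Matrix (Fin 3 ⊕ Fin 3) (Fin 8) (ZMod 2) :=
  Matrix.of fun k i => Sum.elim (fun j => basisF j i) (fun j => basisE j i) k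

/-- Even weight. -/
def Even8 (w : Fin 8 → ZMod 2) : Prop := ∑ i, w i = 0

instance (w : Fin 8 → ZMod 2) : Decidable (Even8 w) := inferInstanceAs (Decidable (_ = _))

/-- Half of the weight modulo two. -/
def halfWt (w : Fin 8 → ZMod 2) : ZMod 2 :=
  (((Finset.univ.filter fun i => w i = 1).card / 2 : ℕ) : ZMod 2)

theorem coord_lift : coordM * liftM = 1 := by decide +kernel

theorem lift_coord : ∀ w : Fin 8 → ZMod 2, Even8 w →
    liftM *ᵥ (coordM *ᵥ w) = w ∨ liftM *ᵥ (coordM *ᵥ w) = w + 1 := by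
  decide +kernel

theorem coord_one : coordM *ᵥ (1 : Fin 8 → ZMod 2) = 0 := by decide +kernel

theorem lift_even : ∀ v : Fin 3 ⊕ Fin 3 → ZMod 2, Even8 (liftM *ᵥ v) := by decide +kernel

theorem form_coord : ∀ w : Fin 8 → ZMod 2, Even8 w →
    Cfsg.quadFormPlus 3 (ZMod 2) (coordM *ᵥ w) = halfWt w := by
  unfold Cfsg.quadFormPlus
  decide +kernel

theorem even_comp {w : Fin 8 → ZMod 2} (π : Equiv.Perm (Fin 8)) (hw : Even8 w) : Even8 (w ∘ π) := by
  unfold Even8 at *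
  rw [← hw]
  exact Equiv.sum_comp π w

theorem halfWt_comp (w : Fin 8 → ZMod 2) (π : Equiv.Perm (Fin 8)) : halfWt (w ∘ π) = halfWt w := by
  unfold halfWt
  congr 2
  exact Finset.card_equiv π (by simp)

/-- The matrix of a permutation on the heart. -/
def mat (π : Equiv.Perm (Fin 8)) : Matrix (Fin 3 ⊕ Fin 3) (Fin 3 ⊕ Fin 3) (ZMod 2) :=
  coordM * liftM.submatrix π.symm id

theorem mat_mulVec (π : Equiv.Perm (Fin 8)) (v : Fin 3 ⊕ Fin 3 → ZMod 2) :
    mat π *ᵥ v = coordM *ᵥ ((liftM *ᵥ v) ∘ π.symm) := by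
  rw [mat, ← Matrix.mulVec_mulVec]
  rfl

theorem mat_one : mat 1 = 1 := by
  unfold mat
  exact coord_lift

theorem mat_mul (π σ : Equiv.Perm (Fin 8)) : mat (π * σ) = mat π * mat σ := by
  refine Matrix.ext_of_mulVec_single fun j => ?_
  rw [← Matrix.mulVec_mulVec, mat_mulVec, mat_mulVec, mat_mulVec]
  set u := (liftM *ᵥ Pi.single j 1) ∘ σ.symm with hu
  have he : Even8 u := even_comp σ.symm (lift_even _)
  rcases lift_coord u he with h | h <;> rw [h]
  · rfl
  · rw [show (u + 1) ∘ π.symm = u ∘ π.symm + (1 : Fin 8 → ZMod 2) from rfl, Matrix.mulVec_add,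
      coord_one, add_zero]
    rfl

theorem mat_form (π : Equiv.Perm (Fin 8)) (v : Fin 3 ⊕ Fin 3 → ZMod 2) :
    Cfsg.quadFormPlus 3 (ZMod 2) (mat π *ᵥ v) = Cfsg.quadFormPlus 3 (ZMod 2) v := by
  have h0 : v = coordM *ᵥ (liftM *ᵥ v) := by
    rw [Matrix.mulVec_mulVec, coord_lift, Matrix.one_mulVec]
  conv_rhs => rw [h0]
  rw [mat_mulVec, form_coord _ (even_comp _ (lift_even v)), form_coord _ (lift_even v), halfWt_comp]

/-- The representation. -/
noncomputable def toGL : Equiv.Perm (Fin 8) →* Matrix.GeneralLinearGroup (Fin 3 ⊕ Fin 3) (ZMod 2) :=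
  ({ toFun := mat, map_one' := mat_one, map_mul' := mat_mul } :
    Equiv.Perm (Fin 8) →* Matrix (Fin 3 ⊕ Fin 3) (Fin 3 ⊕ Fin 3) (ZMod 2)).toHomUnits

theorem toGL_coe (π : Equiv.Perm (Fin 8)) :
    ((toGL π : Matrix.GeneralLinearGroup (Fin 3 ⊕ Fin 3) (ZMod 2)) : Matrix _ _ (ZMod 2)) = mat π := rfl

/-- The representation into the orthogonal group. -/
noncomputable def rho : Equiv.Perm (Fin 8) →* Cfsg.isometryGroup (ZMod 2) (Cfsg.quadFormPlus 3 (ZMod 2)) :=
  toGL.codRestrict _ fun π u _ => by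
    show Cfsg.quadFormPlus 3 (ZMod 2) (mat π *ᵥ u) = _
    exact mat_form π u

theorem pair_fixed : ∀ a b : Fin 8, a ≠ b → ∀ c d : Fin 8,
    coordM *ᵥ (Pi.single a 1 + Pi.single b 1) = coordM *ᵥ (Pi.single c 1 + Pi.single d 1) →
    (c = a ∧ d = b) ∨ (c = b ∧ d = a) := by
  decide +kernel

theorem single_even : ∀ a b : Fin 8, Even8 (Pi.single a 1 + Pi.single b 1) := by decide +kernel

theorem mat_pair (π : Equiv.Perm (Fin 8)) (a b : Fin 8) :
    mat π *ᵥ (coordM *ᵥ (Pi.single a 1 + Pi.single b 1)) =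
      coordM *ᵥ (Pi.single (π a) 1 + Pi.single (π b) 1) := by
  rw [mat_mulVec]
  have hs : (Pi.single a (1 : ZMod 2) + Pi.single b 1 : Fin 8 → ZMod 2) ∘ π.symm =
      Pi.single (π a) 1 + Pi.single (π b) 1 := by
    funext i
    simp [Pi.single_apply, Equiv.symm_apply_eq]
  rcases lift_coord _ (single_even a b) with h | h <;> rw [h]
  · rw [hs]
  · rw [show (Pi.single a (1 : ZMod 2) + Pi.single b 1 + 1 : Fin 8 → ZMod 2) ∘ π.symm =
        (Pi.single a (1 : ZMod 2) + Pi.single b 1 : Fin 8 → ZMod 2) ∘ π.symm + 1 from rfl, hs,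
      Matrix.mulVec_add, coord_one, add_zero]

theorem rho_injective : Function.Injective rho := by
  rw [← MonoidHom.ker_eq_bot_iff, Subgroup.eq_bot_iff_forall]
  intro π hπ
  have hm : mat π = 1 :=
    (congrArg (fun g : Cfsg.isometryGroup (ZMod 2) (Cfsg.quadFormPlus 3 (ZMod 2)) =>
      (g.1 : Matrix.GeneralLinearGroup _ _).1) (MonoidHom.mem_ker.1 hπ) : _)
  have key : ∀ a b : Fin 8, a ≠ b → (π a = a ∧ π b = b) ∨ (π a = b ∧ π b = a) := fun a b hab =>
    pair_fixed a b hab _ _ (by rw [← mat_pair, hm, Matrix.one_mulVec])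
  refine Equiv.ext fun a => ?_
  show π a = a
  obtain ⟨b, c, hab, hac, hbc⟩ : ∃ b c : Fin 8, a ≠ b ∧ a ≠ c ∧ b ≠ c := by
    revert a; decide
  rcases key a b hab with h | h
  · exact h.1
  rcases key a c hac with h' | h'
  · exact h'.1
  · exact absurd (h.1.symm.trans h'.1) hbc

theorem card_iso : Nat.card (Cfsg.isometryGroup (ZMod 2) (Cfsg.quadFormPlus 3 (ZMod 2))) = 40320 := by
  rw [Orth.card_isometryGroup (Orth.qPlus (ZMod 2) 3) (Orth.coe_qPlus 3), Orth.card_oGroup_qPlus 2,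
    Nat.card_zmod]
  rfl

/-- `S₈ ≅ O⁺₆(2)`. -/
noncomputable def equiv : Equiv.Perm (Fin 8) ≃* Cfsg.isometryGroup (ZMod 2) (Cfsg.quadFormPlus 3 (ZMod 2)) :=
  MulEquiv.ofBijective rho ((Nat.bijective_iff_injective_and_card rho).2 ⟨rho_injective, by
    rw [card_iso, Nat.card_perm, Nat.card_fin]; rfl⟩)

end Cfsg.Agent.SymEight
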